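import Mathlib

/-!
Free modules for a subgroup: definition by a translated basis, extensions, fields with
semilinear group action.
-/

set_option autoImplicit false

namespace Cfsg.Agent.FrobFree

variable {k V A : Type*} [Field k] [AddCommGroup V] [Module k V] [Group A]

/-- There is a finite family whose `H`-translates form a basis. -/
def IsFreeOn (ρ : Representation k A V) (H : Subgroup A) : Prop :=
  ∃ (n : ℕ) (b : Fin n → V),
    LinearIndependent k (fun q : ↥H × Fin n => ρ (q.1 : A) (b q.2)) ∧
    ⊤ ≤ Submodule.span k (Set.range fun q : ↥H × Fin n => ρ (q.1 : A) (b q.2))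

/-- The restriction to an invariant submodule. -/
noncomputable def subRep (ρ : Representation k A V) (U : Submodule k V)
    (hU : ∀ a : A, ∀ v ∈ U, ρ a v ∈ U) : Representation k A U where
  toFun a := (ρ a).restrict (hU a)
  map_one' := by ext v; simp [LinearMap.restrict_apply]
  map_mul' a b := by ext v; simp [LinearMap.restrict_apply]

@[simp] theorem subRep_apply (ρ : Representation k A V) (U : Submodule k V)
    (hU : ∀ a : A, ∀ v ∈ U, ρ a v ∈ U) (a : A) (v : U) :
    ((subRep ρ U hU a) v : V) = ρ a v := rfl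

/-- The action on the quotient by an invariant submodule. -/
noncomputable def quotRep (ρ : Representation k A V) (U : Submodule k V)
    (hU : ∀ a : A, ∀ v ∈ U, ρ a v ∈ U) : Representation k A (V ⧸ U) where
  toFun a := U.mapQ U (ρ a) (fun v hv => hU a v hv)
  map_one' := by
    ext v
    simp
  map_mul' a b := by
    ext v
    simp

@[simp] theorem quotRep_mk (ρ : Representation k A V) (U : Submodule k V)
    (hU : ∀ a : A, ∀ v ∈ U, ρ a v ∈ U) (a : A) (v : V) :
    quotRep ρ U hU a (Submodule.Quotient.mk v) = Submodule.Quotient.mk (ρ a v) := rfl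

theorem isFreeOn_ext (ρ : Representation k A V) (H : Subgroup A) (U : Submodule k V)
    (hU : ∀ a : A, ∀ v ∈ U, ρ a v ∈ U) (h₁ : IsFreeOn (subRep ρ U hU) H)
    (h₂ : IsFreeOn (quotRep ρ U hU) H) : IsFreeOn ρ H := by
  obtain ⟨n, b, hbl, hbs⟩ := h₁
  obtain ⟨m, c, hcl, hcs⟩ := h₂
  choose c' hc' using fun j => Submodule.Quotient.mk_surjective U (c j)
  let e : ↥H × Fin (n + m) ≃ (↥H × Fin n) ⊕ (↥H × Fin m) :=
    (Equiv.prodCongr (Equiv.refl _) finSumFinEquiv.symm).trans (Equiv.prodSumDistrib _ _ _)
  let d : Fin (n + m) → V := Sum.elim (fun i => (b i : V)) c' ∘ finSumFinEquiv.symm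
  have hd : (fun q : ↥H × Fin (n + m) => ρ (q.1 : A) (d q.2)) =
      Sum.elim (fun q => ((subRep ρ U hU (q.1 : A)) (b q.2) : V))
        (fun q => ρ (q.1 : A) (c' q.2)) ∘ e := by
    funext q
    simp only [e, d, Function.comp_apply, Equiv.trans_apply, Equiv.prodCongr_apply, Prod.map,
      Equiv.refl_apply]
    rcases finSumFinEquiv.symm q.2 with i | i <;> simp
  refine ⟨n + m, d, ?_, ?_⟩
  · rw [hd]
    refine LinearIndependent.comp ?_ _ e.injective
    refine LinearIndependent.sumElim_of_quotient hbl _ ?_
    simpa [Function.comp_def, ← hc'] using hcl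
  · rw [hd, e.surjective.range_comp, Set.Sum.elim_range, Submodule.span_union]
    set S := Submodule.span k (Set.range fun q : ↥H × Fin n => ((subRep ρ U hU (q.1 : A)) (b q.2) : V))
      with hS
    set T := Submodule.span k (Set.range fun q : ↥H × Fin m => ρ (q.1 : A) (c' q.2)) with hT
    have hUS : U ≤ S := by
      intro v hv
      have h1 := Submodule.mem_map_of_mem (f := U.subtype) (hbs (Submodule.mem_top (x := ⟨v, hv⟩)))
      rw [Submodule.map_span, ← Set.range_comp] at h1
      exact h1
    intro v _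
    have h2 := hcs (Submodule.mem_top (x := Submodule.Quotient.mk v))
    have h3 : Submodule.span k (Set.range fun q : ↥H × Fin m =>
        quotRep ρ U hU (q.1 : A) (c q.2)) = T.map U.mkQ := by
      rw [hT, Submodule.map_span, ← Set.range_comp]
      congr 2
      funext q
      simp [← hc']
    rw [h3] at h2
    obtain ⟨w, hw, hwv⟩ := h2
    have h4 : v - w ∈ U := by
      rw [← Submodule.Quotient.eq]
      exact hwv.symm
    have : v = (v - w) + w := by abel
    rw [this]
    exact Submodule.add_mem_sup (hUS h4) hw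

/-- Induction along invariant submodules for a property inherited by subs and quotients. -/
theorem isFreeOn_induction {k A : Type*} [Field k] [Group A] (H : Subgroup A)
    (P : ∀ (V : Type*) [AddCommGroup V] [Module k V], Representation k A V → Prop)
    (hsub : ∀ (V : Type _) [AddCommGroup V] [Module k V] (ρ : Representation k A V)
      (U : Submodule k V) (hU : ∀ a : A, ∀ v ∈ U, ρ a v ∈ U), P V ρ → P U (subRep ρ U hU))
    (hquot : ∀ (V : Type _) [AddCommGroup V] [Module k V] (ρ : Representation k A V)
      (U : Submodule k V) (hU : ∀ a : A, ∀ v ∈ U, ρ a v ∈ U), P V ρ → P (V ⧸ U) (quotRep ρ U hU))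
    (hirr : ∀ (V : Type _) [AddCommGroup V] [Module k V] [FiniteDimensional k V] [Nontrivial V]
      (ρ : Representation k A V), P V ρ →
      (∀ U : Submodule k V, (∀ a : A, ∀ v ∈ U, ρ a v ∈ U) → U = ⊥ ∨ U = ⊤) → IsFreeOn ρ H) :
    ∀ (V : Type _) [AddCommGroup V] [Module k V] [FiniteDimensional k V]
      (ρ : Representation k A V), P V ρ → IsFreeOn ρ H := by
  suffices key : ∀ d : ℕ, ∀ (V : Type _) [AddCommGroup V] [Module k V] [FiniteDimensional k V]
      (ρ : Representation k A V), Module.finrank k V = d → P V ρ → IsFreeOn ρ H from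
    fun V _ _ _ ρ hP => key _ V ρ rfl hP
  intro d
  induction d using Nat.strong_induction_on with
  | _ d ih =>
    intro V _ _ _ ρ hd hP
    rcases subsingleton_or_nontrivial V with hV | hV
    · refine ⟨0, Fin.elim0, linearIndependent_empty_type, fun v _ => ?_⟩
      rw [Subsingleton.elim v 0]
      exact zero_mem _
    by_cases hred : ∀ U : Submodule k V, (∀ a : A, ∀ v ∈ U, ρ a v ∈ U) → U = ⊥ ∨ U = ⊤
    · exact hirr V ρ hP hred
    push Not at hred
    obtain ⟨U, hU, hb, ht⟩ := hred
    have h1 : Module.finrank k U < d := hd ▸ Submodule.finrank_lt ht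
    have h0 : 0 < Module.finrank k U := by
      rw [Nat.pos_iff_ne_zero]
      exact fun h => hb (Submodule.finrank_eq_zero.mp h)
    have h2 : Module.finrank k (V ⧸ U) < d := by
      have := Submodule.finrank_quotient_add_finrank U
      omega
    exact isFreeOn_ext ρ H U hU (ih _ h1 U _ rfl (hsub V ρ U hU hP))
      (ih _ h2 (V ⧸ U) _ rfl (hquot V ρ U hU hP))

/-- A field with a faithful finite group of automorphisms over `k` is free for that group. -/
theorem exists_galois_basis {k L G : Type*} [Field k] [Field L] [Algebra k L]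
    [FiniteDimensional k L] [Group G] [Finite G] (φ : G →* (L ≃ₐ[k] L))
    (hφ : Function.Injective φ) :
    ∃ (n : ℕ) (b : Fin n → L), LinearIndependent k (fun q : G × Fin n => φ q.1 (b q.2)) ∧
      ⊤ ≤ Submodule.span k (Set.range fun q : G × Fin n => φ q.1 (b q.2)) := by
  classical
  let F₀ : IntermediateField k L := IntermediateField.fixedField φ.range
  have : IsGalois F₀ L := IsGalois.of_fixed_field L φ.range
  let bn := IsGalois.normalBasis F₀ L
  let B₀ := Module.finBasis k F₀
  let u := bn 1
  refine ⟨Module.finrank k F₀, fun j => (B₀ j : L) * u, ?_⟩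
  have hfix : ∀ g : G, ∀ x : F₀, φ g (x : L) = x := fun g x =>
    x.2 ⟨φ g, ⟨g, rfl⟩⟩
  have hgal : ∀ g : G, φ g ∈ IntermediateField.fixingSubgroup F₀ := fun g => by
    rw [IntermediateField.mem_fixingSubgroup_iff]
    exact fun x hx => hfix g ⟨x, hx⟩
  let ψ : G → Gal(L/F₀) := fun g => IntermediateField.fixingSubgroupEquiv F₀ ⟨φ g, hgal g⟩
  have hψa : ∀ g : G, ∀ x : L, ψ g x = φ g x := fun g x => rfl
  have hψi : Function.Injective ψ := fun g g' h => hφ (AlgEquiv.ext fun x => by
    rw [← hψa, ← hψa, h])
  have hψs : Function.Surjective ψ := by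
    intro σ
    have hmem : ((IntermediateField.fixingSubgroupEquiv F₀).symm σ : L ≃ₐ[k] L) ∈
        IntermediateField.fixingSubgroup F₀ := ((IntermediateField.fixingSubgroupEquiv F₀).symm σ).2
    obtain ⟨g, hg⟩ := (SetLike.ext_iff.mp
      (IntermediateField.fixingSubgroup_fixedField (F := k) (E := L) φ.range) _).mp hmem
    refine ⟨g, AlgEquiv.ext fun x => ?_⟩
    rw [hψa, hg]
    exact (DFunLike.congr_fun ((IntermediateField.fixingSubgroupEquiv F₀).apply_symm_apply σ) x)
  let e : G × Fin (Module.finrank k F₀) ≃ Fin (Module.finrank k F₀) × Gal(L/F₀) :=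
    (Equiv.prodComm _ _).trans (Equiv.prodCongr (Equiv.refl _)
      (Equiv.ofBijective ψ ⟨hψi, hψs⟩))
  have hb : (fun q : G × Fin (Module.finrank k F₀) => φ q.1 ((B₀ q.2 : L) * u)) =
      (B₀.smulTower bn) ∘ e := by
    funext q
    simp only [e, Function.comp_apply, Equiv.trans_apply, Equiv.prodComm_apply, Prod.swap,
      Equiv.prodCongr_apply, Prod.map, Equiv.refl_apply, Equiv.ofBijective_apply,
      Module.Basis.smulTower_apply]
    rw [map_mul, hfix]
    refine Eq.trans ?_ (congrArg (B₀ q.2 • ·) (IsGalois.normalBasis_apply (ψ q.1)).symm)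
    show _ = B₀ q.2 • ψ q.1 u
    rw [hψa, IntermediateField.smul_def, smul_eq_mul]
  rw [hb]
  exact ⟨(B₀.smulTower bn).linearIndependent.comp _ e.injective, by
    rw [e.surjective.range_comp, Module.Basis.span_eq]⟩

end Cfsg.Agent.FrobFree
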