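import Cfsg.Agent.FrobFree.Basic

/-!
An irreducible module for `Z H`, `Z` abelian on the module and `H` acting fixed-point-freely on
`Z`, is free over `H`.
-/

set_option autoImplicit false

namespace Cfsg.Agent.FrobFree

variable {k V A : Type*} [Field k] [AddCommGroup V] [Module k V] [Group A]

theorem rep_mul_apply (ρ : Representation k A V) (a b : A) (v : V) :
    ρ (a * b) v = ρ a (ρ b v) := by
  rw [map_mul]; rfl

@[simp] theorem rep_inv_apply (ρ : Representation k A V) (a : A) (v : V) :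
    ρ a⁻¹ (ρ a v) = v := by
  rw [← rep_mul_apply, inv_mul_cancel, map_one]; rfl

@[simp] theorem rep_apply_inv (ρ : Representation k A V) (a : A) (v : V) :
    ρ a (ρ a⁻¹ v) = v := by
  rw [← rep_mul_apply, mul_inv_cancel, map_one]; rfl

/-- Conjugation of an endomorphism by the image of a group element. -/
noncomputable def theta (ρ : Representation k A V) (h : A) : Module.End k V ≃ₐ[k] Module.End k V :=
  AlgEquiv.ofAlgHom
    { toFun := fun a => ρ h * a * ρ h⁻¹
      map_one' := by rw [mul_one, ← map_mul, mul_inv_cancel, map_one]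
      map_mul' := fun a b => by
        have : ρ h⁻¹ * ρ h = 1 := by rw [← map_mul, inv_mul_cancel, map_one]
        calc ρ h * (a * b) * ρ h⁻¹ = ρ h * a * 1 * b * ρ h⁻¹ := by noncomm_ring
          _ = ρ h * a * (ρ h⁻¹ * ρ h) * b * ρ h⁻¹ := by rw [this]
          _ = ρ h * a * ρ h⁻¹ * (ρ h * b * ρ h⁻¹) := by noncomm_ring
      map_zero' := by simp
      map_add' := fun a b => by noncomm_ring
      commutes' := fun r => by
        rw [← Algebra.commutes, mul_assoc, ← map_mul, mul_inv_cancel, map_one, mul_one] }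
    { toFun := fun a => ρ h⁻¹ * a * ρ h
      map_one' := by rw [mul_one, ← map_mul, inv_mul_cancel, map_one]
      map_mul' := fun a b => by
        have : ρ h * ρ h⁻¹ = 1 := by rw [← map_mul, mul_inv_cancel, map_one]
        calc ρ h⁻¹ * (a * b) * ρ h = ρ h⁻¹ * a * 1 * b * ρ h := by noncomm_ring
          _ = ρ h⁻¹ * a * (ρ h * ρ h⁻¹) * b * ρ h := by rw [this]
          _ = ρ h⁻¹ * a * ρ h * (ρ h⁻¹ * b * ρ h) := by noncomm_ring
      map_zero' := by simp
      map_add' := fun a b => by noncomm_ring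
      commutes' := fun r => by
        rw [← Algebra.commutes, mul_assoc, ← map_mul, inv_mul_cancel, map_one, mul_one] }
    (by ext a v; simp [Module.End.mul_apply])
    (by ext a v; simp [Module.End.mul_apply])

theorem theta_apply (ρ : Representation k A V) (h : A) (a : Module.End k V) (v : V) :
    theta ρ h a v = ρ h (a (ρ h⁻¹ v)) := rfl

theorem theta_mul (ρ : Representation k A V) (g h : A) (a : Module.End k V) :
    theta ρ (g * h) a = theta ρ g (theta ρ h a) := by
  ext v
  simp [theta_apply, rep_mul_apply]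

theorem theta_one (ρ : Representation k A V) (a : Module.End k V) : theta ρ 1 a = a := by
  ext v
  simp [theta_apply]

theorem theta_swap (ρ : Representation k A V) (h : A) (a : Module.End k V) (v : V) :
    theta ρ h a (ρ h v) = ρ h (a v) := by
  simp [theta_apply]

theorem theta_rho (ρ : Representation k A V) (h z : A) :
    theta ρ h (ρ z) = ρ (h * z * h⁻¹) := by
  ext v
  simp [theta_apply, rep_mul_apply]

set_option maxHeartbeats 1000000 in
theorem isFreeOn_of_irreducible [Finite A] [FiniteDimensional k V] [Nontrivial V]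
    (ρ : Representation k A V) (Z H : Subgroup A)
    (hH : ∀ h ∈ H, ∀ z ∈ Z, h * z * h⁻¹ ∈ Z)
    (hcomm : ∀ z ∈ Z, ∀ w ∈ Z, ρ (z * w) = ρ (w * z))
    (hfpf : ∀ h ∈ H, h ≠ 1 → ∀ z ∈ Z, h * z * h⁻¹ = z → z = 1)
    (hC : ∀ v : V, (∀ z ∈ Z, ρ z v = v) → v = 0)
    (hirr : ∀ U : Submodule k V, (∀ z ∈ Z, ∀ v ∈ U, ρ z v ∈ U) →
      (∀ h ∈ H, ∀ v ∈ U, ρ h v ∈ U) → U = ⊥ ∨ U = ⊤) :
    IsFreeOn ρ H := by
  classical
  -- the commutative algebra generated by `Z`
  let K : Subalgebra k (Module.End k V) := Algebra.adjoin k ((fun z => ρ z) '' (Z : Set A))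
  have hgen : ∀ z ∈ Z, ρ z ∈ K := fun z hz => Algebra.subset_adjoin ⟨z, hz, rfl⟩
  have hcent : ∀ a ∈ K, ∀ z ∈ Z, a * ρ z = ρ z * a := by
    intro a ha z hz
    induction ha using Algebra.adjoin_induction with
    | mem x hx =>
      obtain ⟨w, hw, rfl⟩ := hx
      show ρ w * ρ z = ρ z * ρ w
      rw [← map_mul, ← map_mul]
      exact hcomm w hw z hz
    | algebraMap r => exact Algebra.commutes r _
    | add x y _ _ hx hy => rw [add_mul, mul_add, hx, hy]
    | mul x y _ _ hx hy => rw [mul_assoc, hy, ← mul_assoc, hx, mul_assoc]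
  have hKcomm : ∀ a ∈ K, ∀ b ∈ K, a * b = b * a := by
    intro a ha b hb
    induction hb using Algebra.adjoin_induction with
    | mem x hx =>
      obtain ⟨w, hw, rfl⟩ := hx
      exact hcent a ha w hw
    | algebraMap r => exact (Algebra.commutes r _).symm
    | add x y _ _ hx hy => rw [add_mul, mul_add, hx, hy]
    | mul x y _ _ hx hy => rw [← mul_assoc, hx, mul_assoc, hy, mul_assoc]
  have hθK : ∀ h ∈ H, ∀ a ∈ K, theta ρ h a ∈ K := by
    intro h hh a ha
    induction ha using Algebra.adjoin_induction with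
    | mem x hx =>
      obtain ⟨w, hw, rfl⟩ := hx
      rw [theta_rho]
      exact hgen _ (hH h hh w hw)
    | algebraMap r => rw [AlgEquiv.commutes]; exact K.algebraMap_mem r
    | add x y _ _ hx hy => rw [map_add]; exact add_mem hx hy
    | mul x y _ _ hx hy => rw [map_mul]; exact mul_mem hx hy
  -- a minimal Z-invariant subspace
  have hex : ∃ d : ℕ, ∃ U : Submodule k V, U ≠ ⊥ ∧ (∀ z ∈ Z, ∀ v ∈ U, ρ z v ∈ U) ∧
      Module.finrank k U = d := ⟨_, ⊤, top_ne_bot, fun _ _ _ _ => trivial, rfl⟩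
  obtain ⟨S, hS0, hSZ, hSd⟩ := Nat.find_spec hex
  have hSmin : ∀ U : Submodule k V, U ≤ S → (∀ z ∈ Z, ∀ v ∈ U, ρ z v ∈ U) → U = ⊥ ∨ U = S := by
    intro U hU hUZ
    by_cases h0 : U = ⊥
    · exact Or.inl h0
    exact Or.inr (Submodule.eq_of_le_of_finrank_le hU
      (hSd ▸ Nat.find_min' hex ⟨U, h0, hUZ, rfl⟩))
  have hSK : ∀ a ∈ K, ∀ v ∈ S, a v ∈ S := by
    intro a ha
    induction ha using Algebra.adjoin_induction with
    | mem x hx =>
      obtain ⟨w, hw, rfl⟩ := hx
      exact hSZ w hw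
    | algebraMap r => exact fun v hv => by simpa using S.smul_mem r hv
    | add x y _ _ hx hy => exact fun v hv => S.add_mem (hx v hv) (hy v hv)
    | mul x y _ _ hx hy => exact fun v hv => hx _ (hy v hv)
  have hinj : ∀ a ∈ K, ¬ (∀ s ∈ S, a s = 0) → ∀ s ∈ S, a s = 0 → s = 0 := by
    intro a ha hne s hs h0
    have hker : ∀ z ∈ Z, ∀ v ∈ LinearMap.ker a ⊓ S, ρ z v ∈ LinearMap.ker a ⊓ S := by
      intro z hz v hv
      rw [Submodule.mem_inf, LinearMap.mem_ker] at hv ⊢
      refine ⟨?_, hSZ z hz v hv.2⟩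
      have h1 := LinearMap.congr_fun (hcent a ha z hz) v
      simp only [Module.End.mul_apply] at h1
      rw [h1, hv.1, map_zero]
    rcases hSmin _ inf_le_right hker with h | h
    · exact (Submodule.mem_bot k).mp (h ▸ Submodule.mem_inf.mpr ⟨LinearMap.mem_ker.mpr h0, hs⟩)
    · exact absurd (fun t ht => LinearMap.mem_ker.mp (Submodule.mem_inf.mp (h ▸ ht)).1) hne
  let _instK : CommRing K :=
    { (inferInstance : Ring K) with mul_comm := fun a b => Subtype.ext (hKcomm a a.2 b b.2) }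
  let J : Ideal K :=
    { carrier := {a | ∀ s ∈ S, (a : Module.End k V) s = 0}
      add_mem' := fun ha hb s hs => by
        show _ + _ = (0 : V)
        rw [ha s hs, hb s hs, add_zero]
      zero_mem' := fun s _ => rfl
      smul_mem' := fun c a ha s hs => by
        show (c : Module.End k V) ((a : Module.End k V) s) = 0
        rw [ha s hs, map_zero] }
  have memJ : ∀ a : K, a ∈ J ↔ ∀ s ∈ S, (a : Module.End k V) s = 0 := fun a => Iff.rfl
  obtain ⟨s₀, hs₀, hs₀0⟩ := (Submodule.ne_bot_iff S).mp hS0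
  have hJne : J ≠ ⊤ := fun h => hs₀0 ((memJ 1).mp (h ▸ Submodule.mem_top) s₀ hs₀)
  have hJprime : J.IsPrime := by
    refine Ideal.isPrime_iff.mpr ⟨hJne, fun {a b} hab => ?_⟩
    by_cases ha : a ∈ J
    · exact Or.inl ha
    refine Or.inr fun s hs => ?_
    exact hinj a a.2 ha _ (hSK b b.2 s hs) (hab s hs)
  have : IsArtinianRing K := IsArtinianRing.of_finite k K
  have hJmax : J.IsMaximal := IsArtinianRing.isMaximal_of_isPrime J
  let _instL : Field (K ⧸ J) := Ideal.Quotient.field J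
  -- the isotypic subspace
  let Vm : Submodule k V :=
    { carrier := {v | ∀ a : K, a ∈ J → (a : Module.End k V) v = 0}
      add_mem' := fun hu hv a ha => by rw [map_add, hu a ha, hv a ha, add_zero]
      zero_mem' := fun a _ => map_zero _
      smul_mem' := fun c v hv a ha => by rw [map_smul, hv a ha, smul_zero] }
  have memVm : ∀ v, v ∈ Vm ↔ ∀ a : K, a ∈ J → (a : Module.End k V) v = 0 := fun v => Iff.rfl
  have hSVm : S ≤ Vm := fun s hs a ha => ha s hs
  have hVmK : ∀ a : K, ∀ v ∈ Vm, (a : Module.End k V) v ∈ Vm := by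
    intro a v hv b hb
    have h1 := LinearMap.congr_fun (hKcomm b b.2 a a.2) v
    simp only [Module.End.mul_apply] at h1
    rw [h1, hv b hb, map_zero]
  let R : K →ₐ[k] Module.End k Vm :=
    { toFun := fun a => (a : Module.End k V).restrict (hVmK a)
      map_one' := by ext v; rfl
      map_mul' := fun a b => by ext v; rfl
      map_zero' := by ext v; rfl
      map_add' := fun a b => by ext v; rfl
      commutes' := fun r => by ext v; rfl }
  have hRJ : ∀ a : K, a ∈ J → R a = 0 := fun a ha => LinearMap.ext fun v => Subtype.ext (v.2 a ha)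
  let Rb : K ⧸ J →ₐ[k] Module.End k Vm := Ideal.Quotient.liftₐ J R hRJ
  have hRb : ∀ (a : K) (v : Vm), ((Rb (Ideal.Quotient.mk J a)) v : V) = (a : Module.End k V) v :=
    fun a v => rfl
  let _instM : Module (K ⧸ J) Vm := Module.compHom Vm Rb.toRingHom
  have hsmul : ∀ (l : K ⧸ J) (v : Vm), l • v = Rb l v := fun l v => rfl
  have hinjVm : ∀ a : K, a ∉ J → ∀ v ∈ Vm, (a : Module.End k V) v = 0 → v = 0 := by
    intro a ha v hv h0
    have ha' : Ideal.Quotient.mk J a ≠ 0 := fun h => ha (Ideal.Quotient.eq_zero_iff_mem.mp h)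
    have h1 : Ideal.Quotient.mk J a • (⟨v, hv⟩ : Vm) = 0 := Subtype.ext (by rw [hsmul, hRb]; exact h0)
    have h2 := congrArg (fun u => (Ideal.Quotient.mk J a)⁻¹ • u) h1
    rw [smul_smul, inv_mul_cancel₀ ha', one_smul, smul_zero] at h2
    exact congrArg Subtype.val h2
  -- the stabiliser
  let θ : H → K → K := fun h a => ⟨theta ρ (h : A) a, hθK h h.2 a a.2⟩
  have θmul : ∀ (g h : H) (a : K), θ (g * h) a = θ g (θ h a) := fun g h a =>
    Subtype.ext (theta_mul ρ (g : A) h a)
  have θone : ∀ a : K, θ 1 a = a := fun a => Subtype.ext (theta_one ρ _)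
  let H₁m : Submonoid H :=
    { carrier := {h | ∀ a : K, a ∈ J → θ h a ∈ J}
      mul_mem' := fun {g h} hg hh a ha => by rw [θmul]; exact hg _ (hh a ha)
      one_mem' := fun a ha => by rw [θone]; exact ha }
  let H₁ : Subgroup H :=
    { H₁m with
      inv_mem' := fun {h} hh => by
        obtain ⟨m, hm⟩ : ∃ m : ℕ, h⁻¹ = h ^ m := by
          refine ⟨orderOf h - 1, inv_eq_of_mul_eq_one_right ?_⟩
          rw [← pow_succ', Nat.sub_add_cancel (orderOf_pos h), pow_orderOf_eq_one]
        show h⁻¹ ∈ H₁m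
        rw [hm]
        exact pow_mem hh m }
  have memH₁ : ∀ h : H, h ∈ H₁ ↔ ∀ a : K, a ∈ J → θ h a ∈ J := fun h => Iff.rfl
  have hVmH : ∀ h ∈ H₁, ∀ v ∈ Vm, ρ (h : A) v ∈ Vm := by
    intro h hh v hv a ha
    have h1 : θ h (θ h⁻¹ a) = a := by rw [← θmul, mul_inv_cancel, θone]
    have h2 := theta_swap ρ (h : A) (θ h⁻¹ a : K).1 v
    rw [show theta ρ (h : A) (θ h⁻¹ a : K).1 = (a : Module.End k V) from congrArg Subtype.val h1]
      at h2
    rw [h2, hv _ ((inv_mem hh) a ha), map_zero]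
  -- the induced automorphisms of the field
  let φ₀ : H₁ → ((K ⧸ J) →ₐ[k] (K ⧸ J)) := fun h => Ideal.Quotient.liftₐ J
    ((Ideal.Quotient.mkₐ k J).comp
      ({ toFun := θ h
         map_one' := Subtype.ext (map_one (theta ρ _))
         map_mul' := fun a b => Subtype.ext (map_mul (theta ρ _) _ _)
         map_zero' := Subtype.ext (map_zero (theta ρ _))
         map_add' := fun a b => Subtype.ext (map_add (theta ρ _) _ _)
         commutes' := fun r => Subtype.ext ((theta ρ _).commutes r) } : K →ₐ[k] K))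
    (fun a ha => Ideal.Quotient.eq_zero_iff_mem.mpr (h.2 a ha))
  have hφ₀ : ∀ (h : H₁) (a : K),
      φ₀ h (Ideal.Quotient.mk J a) = Ideal.Quotient.mk J (θ h a) := fun h a => rfl
  have hφmul : ∀ g h : H₁, φ₀ (g * h) = (φ₀ g).comp (φ₀ h) := fun g h => AlgHom.ext fun l => by
    obtain ⟨a, rfl⟩ := Ideal.Quotient.mk_surjective l
    rw [AlgHom.comp_apply, hφ₀, hφ₀, hφ₀, Subgroup.coe_mul, θmul]
  have hφone : φ₀ 1 = AlgHom.id k _ := AlgHom.ext fun l => by
    obtain ⟨a, rfl⟩ := Ideal.Quotient.mk_surjective l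
    rw [hφ₀, OneMemClass.coe_one, θone]; rfl
  let φ : H₁ →* ((K ⧸ J) ≃ₐ[k] (K ⧸ J)) :=
    { toFun := fun h => AlgEquiv.ofAlgHom (φ₀ h) (φ₀ h⁻¹)
        (by rw [← hφmul, mul_inv_cancel, hφone]) (by rw [← hφmul, inv_mul_cancel, hφone])
      map_one' := AlgEquiv.ext fun l => DFunLike.congr_fun hφone l
      map_mul' := fun g h => AlgEquiv.ext fun l => DFunLike.congr_fun (hφmul g h) l }
  have hφ : ∀ (h : H₁) (a : K),
      φ h (Ideal.Quotient.mk J a) = Ideal.Quotient.mk J (θ h a) := hφ₀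
  have hswap : ∀ (h : H₁) (l : K ⧸ J) (v : Vm) (hw : ρ ((h : H) : A) v ∈ Vm),
      ρ ((h : H) : A) ((l • v : Vm) : V) = ((φ h l • (⟨_, hw⟩ : Vm) : Vm) : V) := by
    intro h l v hw
    obtain ⟨a, rfl⟩ := Ideal.Quotient.mk_surjective l
    rw [hsmul, hsmul, hRb, hφ, hRb]
    exact (theta_swap ρ _ _ _).symm
  have hφinj : Function.Injective φ := by
    rw [injective_iff_map_eq_one]
    intro h h1
    by_contra hne
    have hne' : ((h : H) : A) ≠ 1 := fun e => hne (Subtype.ext (Subtype.ext e))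
    set a : A := ((h : H) : A) with ha
    have haH : a ∈ H := (h : H).2
    let c : Z → Z := fun z => ⟨a * z * a⁻¹ * (z : A)⁻¹, mul_mem (hH a haH z z.2) (inv_mem z.2)⟩
    have hc : Function.Injective c := by
      intro z w e
      have e' : a * (z : A) * a⁻¹ * (z : A)⁻¹ = a * (w : A) * a⁻¹ * (w : A)⁻¹ := congrArg Subtype.val e
      have : a * ((w : A)⁻¹ * z) * a⁻¹ = (w : A)⁻¹ * z := by
        calc a * ((w : A)⁻¹ * z) * a⁻¹
            = (w : A)⁻¹ * (a * (w : A) * a⁻¹ * (w : A)⁻¹)⁻¹ * (a * (z : A) * a⁻¹ * (z : A)⁻¹) * z := by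
              group
          _ = (w : A)⁻¹ * z := by rw [e']; group
      have h2 := hfpf a haH hne' _ (mul_mem (inv_mem w.2) z.2) this
      exact Subtype.ext (inv_mul_eq_one.mp h2).symm
    have htriv : ∀ z ∈ Z, ∀ v ∈ Vm, ρ z v = v := by
      intro z hz v hv
      obtain ⟨w, hw⟩ := (Finite.injective_iff_surjective.mp hc) ⟨z, hz⟩
      have hw' : z = a * w * a⁻¹ * (w : A)⁻¹ := (congrArg Subtype.val hw).symm
      have hmem : ρ (w : A)⁻¹ v ∈ Vm := hVmK ⟨ρ (w : A)⁻¹, hgen _ (inv_mem w.2)⟩ v hv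
      let kw : K := ⟨ρ (w : A), hgen _ w.2⟩
      have h3 : θ h kw - kw ∈ J := by
        rw [← Ideal.Quotient.eq, ← hφ, h1]; rfl
      have h4 := hmem _ h3
      rw [Subalgebra.coe_sub, LinearMap.sub_apply, sub_eq_zero] at h4
      rw [show ((θ h kw : K) : Module.End k V) = ρ (a * w * a⁻¹) from theta_rho ρ a w] at h4
      rw [hw', rep_mul_apply, h4]
      exact rep_apply_inv ρ (w : A) v
    exact hs₀0 (hC s₀ fun z hz => htriv z hz s₀ (hSVm hs₀))
  -- a fixed vector
  let _instF : Fintype H₁ := Fintype.ofFinite _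
  let v₀ : Vm := ⟨s₀, hSVm hs₀⟩
  let w : H₁ → Vm := fun h => ⟨ρ ((h : H) : A) s₀, hVmH _ h.2 _ (hSVm hs₀)⟩
  obtain ⟨l, hl⟩ : ∃ l : K ⧸ J, ∑ h : H₁, φ h l • w h ≠ 0 := by
    by_contra hc
    push Not at hc
    have hw1 : w 1 ≠ 0 := fun e => hs₀0 (by
      have := congrArg Subtype.val e
      simpa [w] using this)
    obtain ⟨f, hf⟩ : ∃ f : Module.Dual (K ⧸ J) Vm, f (w 1) ≠ 0 := by
      by_contra hf
      push Not at hf
      exact hw1 ((Module.forall_dual_apply_eq_zero_iff (K ⧸ J) (w 1)).mp hf)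
    let ψ : H₁ → ((K ⧸ J) →* (K ⧸ J)) := fun h => (φ h : (K ⧸ J) →* (K ⧸ J))
    have hψ : Function.Injective ψ := fun g h e => hφinj (AlgEquiv.ext fun x => DFunLike.congr_fun e x)
    have hli := (linearIndependent_monoidHom (K ⧸ J) (K ⧸ J)).comp ψ hψ
    have hzero : ∑ h : H₁, f (w h) • (fun x => φ h x) = (0 : (K ⧸ J) → (K ⧸ J)) := by
      funext x
      have := congrArg f (hc x)
      rw [map_sum, map_zero] at this
      simp only [Finset.sum_apply, Pi.smul_apply, smul_eq_mul, Pi.zero_apply]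
      rw [← this]
      exact Finset.sum_congr rfl fun h _ => by rw [map_smul, smul_eq_mul, mul_comm]
    exact hf (Fintype.linearIndependent_iff.mp hli (fun h => f (w h)) hzero 1)
  set v₁ : Vm := ∑ h : H₁, φ h l • w h with hv₁
  have hfix : ∀ g : H₁, ρ ((g : H) : A) (v₁ : V) = v₁ := by
    intro g
    rw [hv₁, AddSubmonoidClass.coe_finset_sum, map_sum]
    refine Fintype.sum_equiv (Equiv.mulLeft g) _ _ fun h => ?_
    rw [hswap g _ _ (hVmH _ g.2 _ (w h).2)]
    congr 1
    rw [Equiv.coe_mulLeft, map_mul, AlgEquiv.mul_apply]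
    congr 1
    exact Subtype.ext (by simp [w, rep_mul_apply])
  let ι : (K ⧸ J) →ₗ[k] V :=
    Vm.subtype.comp ((LinearMap.applyₗ (R := k) v₁).comp Rb.toLinearMap)
  have hι : ∀ x, ι x = ((x • v₁ : Vm) : V) := fun x => rfl
  have hιinj : Function.Injective ι := fun x y e => by
    rw [hι, hι] at e
    by_contra hne
    have e' : (x - y) • v₁ = 0 := by rw [sub_smul, Subtype.ext e, sub_self]
    have e'' := congrArg (fun u => (x - y)⁻¹ • u) e'
    rw [smul_smul, inv_mul_cancel₀ (sub_ne_zero.mpr hne), one_smul, smul_zero] at e''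
    exact hl e''
  have hιswap : ∀ (h : H₁) (x : K ⧸ J), ρ ((h : H) : A) (ι x) = ι (φ h x) := by
    intro h x
    rw [hι, hι, hswap h x v₁ (hVmH _ h.2 _ v₁.2)]
    congr 2
    exact Subtype.ext (hfix h)
  obtain ⟨n, b, hbl, hbs⟩ := exists_galois_basis φ hφinj
  refine ⟨n, fun j => ι (b j), ?_, ?_⟩
  · let _instH : Fintype H := Fintype.ofFinite _
    rw [Fintype.linearIndependent_iff]
    intro c hc q
    obtain ⟨g, j⟩ := q
    -- an element killing the other components
    have sep : ∀ T : Finset H, ∃ a : K, θ g⁻¹ a ∉ J ∧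
        ∀ h ∈ T, g⁻¹ * h ∉ H₁ → θ h⁻¹ a ∈ J := by
      intro T
      induction T using Finset.induction with
      | empty =>
        refine ⟨1, ?_, by simp⟩
        rw [show θ g⁻¹ (1 : K) = 1 from Subtype.ext (map_one (theta ρ _))]
        exact fun h => hJne (J.eq_top_iff_one.mpr h)
      | insert h T _ ih =>
        obtain ⟨a, ha, hkill⟩ := ih
        by_cases hh : g⁻¹ * h ∈ H₁
        · exact ⟨a, ha, fun h' hh' hn => by
            rcases Finset.mem_insert.mp hh' with e | e
            · exact absurd (e ▸ hh) hn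
            · exact hkill h' e hn⟩
        rw [memH₁] at hh
        push Not at hh
        obtain ⟨d, hd, hd'⟩ := hh
        refine ⟨θ h d * a, ?_, ?_⟩
        · rw [show θ g⁻¹ (θ h d * a) = θ g⁻¹ (θ h d) * θ g⁻¹ a from
            Subtype.ext (map_mul (theta ρ _) _ _), ← θmul]
          exact fun e => (hJprime.mem_or_mem e).elim hd' ha
        · intro h' hh' hn
          rw [show θ h'⁻¹ (θ h d * a) = θ h'⁻¹ (θ h d) * θ h'⁻¹ a from
            Subtype.ext (map_mul (theta ρ _) _ _)]
          rcases Finset.mem_insert.mp hh' with e | e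
          · subst e
            rw [← θmul, inv_mul_cancel, θone]
            exact J.mul_mem_right _ hd
          · exact J.mul_mem_left _ (hkill h' e hn)
    obtain ⟨a, ha, hkill⟩ := sep Finset.univ
    have hι' : ∀ x, ι x ∈ Vm := fun x => (x • v₁ : Vm).2
    set y : K ⧸ J := ∑ p : H₁ × Fin n, c (g * p.1, p.2) • φ p.1 (b p.2) with hy
    have hterm : ∀ (h : H) (x : V), (a : Module.End k V) (ρ (h : A) x) =
        ρ (h : A) ((θ h⁻¹ a : K).1 x) := by
      intro h x
      show (a : Module.End k V) (ρ (h : A) x) = ρ (h : A) (ρ ((h⁻¹ : H) : A) ((a : Module.End k V)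
        (ρ ((h⁻¹ : H) : A)⁻¹ x)))
      simp
    have hsum : (a : Module.End k V) (ρ (g : A) (ι y)) =
        (a : Module.End k V) (∑ p : H × Fin n, c p • ρ (p.1 : A) (ι (b p.2))) := by
      rw [hy, map_sum, map_sum, map_sum, map_sum]
      refine Finset.sum_bij_ne_zero (fun p _ _ => (g * (p.1 : H), p.2)) (fun _ _ _ => Finset.mem_univ _)
        (fun p _ _ p' _ _ e => ?_) (fun p _ hp => ?_) (fun p _ _ => ?_)
      · simp only [Prod.mk.injEq, mul_right_inj, Subtype.coe_inj] at e
        exact Prod.ext e.1 e.2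
      · by_cases hin : g⁻¹ * p.1 ∈ H₁
        · refine ⟨(⟨_, hin⟩, p.2), Finset.mem_univ _, ?_, by simp⟩
          intro e
          apply hp
          rw [← e]
          simp only [map_smul]
          rw [← hιswap, ← rep_mul_apply, ← Subgroup.coe_mul]
          simp
        · exfalso
          apply hp
          rw [map_smul, hterm, (hι' (b p.2)) _ (hkill p.1 (Finset.mem_univ _) hin), map_zero,
            smul_zero]
      · simp only [map_smul]
        rw [← hιswap, ← rep_mul_apply, ← Subgroup.coe_mul]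
    rw [hc, map_zero, hterm] at hsum
    have h5 : (θ g⁻¹ a : K).1 (ι y) = 0 := by
      have := congrArg (ρ (g : A)⁻¹) hsum
      simpa using this
    have h6 : y = 0 := hιinj (by rw [hinjVm _ ha _ (hι' y) h5, map_zero])
    have := Fintype.linearIndependent_iff.mp hbl (fun p => c (g * p.1, p.2)) h6 (1, j)
    simpa using this
  · set S' := Submodule.span k (Set.range fun q : H × Fin n => ρ (q.1 : A) (ι (b q.2))) with hS'
    have hmem : ∀ (g : H) (x : K ⧸ J), ρ (g : A) (ι x) ∈ S' := by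
      intro g x
      have hx := Submodule.mem_map_of_mem (f := (ρ (g : A)).comp ι) (hbs (Submodule.mem_top (x := x)))
      rw [Submodule.map_span, ← Set.range_comp] at hx
      refine Submodule.span_mono ?_ hx
      rintro _ ⟨⟨h, j⟩, rfl⟩
      refine ⟨(g * (h : H), j), ?_⟩
      simp only [Function.comp_apply, LinearMap.comp_apply]
      rw [Subgroup.coe_mul, rep_mul_apply, hιswap]
    let U : Submodule k V := ⨆ g : H, (LinearMap.range ι).map (ρ (g : A))
    have hUS : U ≤ S' := iSup_le fun g => by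
      rintro _ ⟨_, ⟨x, rfl⟩, rfl⟩
      exact hmem g x
    have hinv : ∀ (x : A), (∀ g : H, ∃ g' : H, ∀ y, ∃ y', ρ x (ρ (g : A) (ι y)) = ρ (g' : A) (ι y')) →
        ∀ v ∈ U, ρ x v ∈ U := by
      intro x hx v hv
      induction hv using Submodule.iSup_induction' with
      | mem g v hv =>
        obtain ⟨_, ⟨y, rfl⟩, rfl⟩ := hv
        obtain ⟨g', hg'⟩ := hx g
        obtain ⟨y', hy'⟩ := hg' y
        rw [hy']
        exact Submodule.mem_iSup_of_mem g' ⟨_, ⟨y', rfl⟩, rfl⟩
      | zero => rw [map_zero]; exact zero_mem _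
      | add v w _ _ hv hw => rw [map_add]; exact add_mem hv hw
    have hUZ : ∀ z ∈ Z, ∀ v ∈ U, ρ z v ∈ U := fun z hz => hinv z fun g => ⟨g, fun y => by
      let kz : K := ⟨ρ ((g : A)⁻¹ * z * (g : A)), hgen _ (by
        simpa using hH _ (inv_mem g.2) z hz)⟩
      refine ⟨Ideal.Quotient.mk J kz * y, ?_⟩
      rw [hι (_ * y), mul_smul, hsmul, hRb]
      show _ = ρ (g : A) (ρ ((g : A)⁻¹ * z * (g : A)) (ι y))
      simp [rep_mul_apply]⟩
    have hUH : ∀ x ∈ H, ∀ v ∈ U, ρ x v ∈ U := fun x hx => hinv x fun g =>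
      ⟨⟨x, hx⟩ * g, fun y => ⟨y, by rw [Subgroup.coe_mul, rep_mul_apply]⟩⟩
    rcases hirr U hUZ hUH with hU | hU
    · exfalso
      refine hl (Subtype.ext ?_)
      have h7 : ι 1 ∈ U := Submodule.mem_iSup_of_mem 1 ⟨ι 1, ⟨1, rfl⟩, by simp⟩
      rw [hU, Submodule.mem_bot, hι, one_smul] at h7
      exact h7
    · exact hU ▸ hUS

end Cfsg.Agent.FrobFree
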