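import Cfsg.Agent.FrobFree.Core
import Cfsg.Agent.OddLocal.Basic

/-!
A module on which a nilpotent normal subgroup has no fixed points is free over a subgroup acting
fixed-point-freely on that normal subgroup.
-/

set_option autoImplicit false

namespace Cfsg.Agent.FrobFree

variable {k V A : Type*} [Field k] [AddCommGroup V] [Module k V] [Group A]

/-- The sum over a subgroup is zero as soon as there are no non-zero fixed vectors. -/
theorem sum_eq_zero_of_no_fixed (ρ : Representation k A V) (Z : Subgroup A) [Fintype Z]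
    (h : ∀ v : V, (∀ z ∈ Z, ρ z v = v) → v = 0) (v : V) : ∑ z : Z, ρ (z : A) v = 0 :=
  h _ fun x hx => by
    rw [map_sum]
    exact Fintype.sum_equiv (Equiv.mulLeft (⟨x, hx⟩ : Z)) (fun z : Z => ρ x (ρ (z : A) v))
      (fun z : Z => ρ (z : A) v) fun z => (rep_mul_apply ρ x z v).symm

theorem no_fixed_of_sum_eq_zero (ρ : Representation k A V) (Z : Subgroup A) [Fintype Z]
    (hZ : (Nat.card Z : k) ≠ 0) (h : ∀ v : V, ∑ z : Z, ρ (z : A) v = 0) (v : V)
    (hv : ∀ z ∈ Z, ρ z v = v) : v = 0 := by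
  have h1 := h v
  rw [Finset.sum_congr rfl (fun (z : Z) _ => hv z z.2), Finset.sum_const, Finset.card_univ,
    ← Nat.card_eq_fintype_card, ← Nat.cast_smul_eq_nsmul k] at h1
  exact (smul_eq_zero.mp h1).resolve_left hZ

theorem subRep_sum (ρ : Representation k A V) (U : Submodule k V)
    (hU : ∀ a : A, ∀ v ∈ U, ρ a v ∈ U) (Z : Subgroup A) [Fintype Z]
    (h : ∀ v : V, ∑ z : Z, ρ (z : A) v = 0) (v : U) :
    ∑ z : Z, subRep ρ U hU (z : A) v = 0 :=
  Subtype.ext (by rw [AddSubmonoidClass.coe_finsetSum]; exact h v)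

theorem quotRep_sum (ρ : Representation k A V) (U : Submodule k V)
    (hU : ∀ a : A, ∀ v ∈ U, ρ a v ∈ U) (Z : Subgroup A) [Fintype Z]
    (h : ∀ v : V, ∑ z : Z, ρ (z : A) v = 0) (v : V ⧸ U) :
    ∑ z : Z, quotRep ρ U hU (z : A) v = 0 := by
  obtain ⟨w, rfl⟩ := Submodule.Quotient.mk_surjective U v
  simp only [quotRep_mk]
  show ∑ z : Z, U.mkQ (ρ (z : A) w) = 0
  rw [← map_sum, h w, map_zero]

/-- Step two: the abelian case. -/
theorem isFreeOn_of_abelian {k A : Type*} [Field k] [Group A] [Finite A] (Z H : Subgroup A)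
    (hH : ∀ h ∈ H, ∀ z ∈ Z, h * z * h⁻¹ ∈ Z)
    (hfpf : ∀ h ∈ H, h ≠ 1 → ∀ z ∈ Z, h * z * h⁻¹ = z → z = 1)
    (hZ : (Nat.card Z : k) ≠ 0)
    {V : Type*} [AddCommGroup V] [Module k V] [FiniteDimensional k V] (ρ : Representation k A V)
    (hcomm : ∀ z ∈ Z, ∀ w ∈ Z, ρ (z * w) = ρ (w * z))
    (hC : ∀ v : V, (∀ z ∈ Z, ρ z v = v) → v = 0) : IsFreeOn ρ H := by
  classical
  let B : Subgroup A := Z ⊔ H
  let ρB : Representation k B V := ρ.comp B.subtype
  let Z' : Subgroup B := Z.subgroupOf B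
  let H' : Subgroup B := H.subgroupOf B
  let _instF : Fintype Z' := Fintype.ofFinite _
  have hZ' : (Nat.card Z' : k) ≠ 0 := by
    rw [Nat.card_congr (Subgroup.subgroupOfEquivOfLe (le_sup_left : Z ≤ B)).toEquiv]
    exact hZ
  have key : IsFreeOn ρB H' := by
    refine isFreeOn_induction H'
      (fun W _ _ σ => (∀ z ∈ Z', ∀ w ∈ Z', σ (z * w) = σ (w * z)) ∧
        ∀ v : W, ∑ z : Z', σ (z : B) v = 0)
      (fun W _ _ σ U hU hP => ⟨fun z hz w hw => LinearMap.ext fun v => Subtype.ext
        (LinearMap.congr_fun (hP.1 z hz w hw) (v : W)), subRep_sum σ U hU Z' hP.2⟩)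
      (fun W _ _ σ U hU hP => ⟨fun z hz w hw => LinearMap.ext fun v => ?_,
        quotRep_sum σ U hU Z' hP.2⟩)
      (fun W _ _ _ _ σ hP hirr => ?_) V ρB ⟨fun z hz w hw => ?_, ?_⟩
    · obtain ⟨x, rfl⟩ := Submodule.Quotient.mk_surjective U v
      rw [quotRep_mk, quotRep_mk, hP.1 z hz w hw]
    · refine isFreeOn_of_irreducible σ Z' H' (fun h hh z hz => ?_) hP.1
        (fun h hh hne z hz e => ?_) (no_fixed_of_sum_eq_zero σ Z' hZ' hP.2) (fun U hUZ hUH => ?_)
      · exact hH _ hh _ hz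
      · refine Subtype.ext (hfpf (h : A) hh (fun e' => hne (Subtype.ext e')) _ hz ?_)
        exact congrArg Subtype.val e
      · refine hirr U fun a => ?_
        have hgen : ∀ x : A, x ∈ B → ∀ hx : x ∈ B, ∀ v ∈ U, σ ⟨x, hx⟩ v ∈ U := by
          intro x hx
          change x ∈ Z ⊔ H at hx
          rw [Subgroup.sup_eq_closure] at hx
          induction hx using Subgroup.closure_induction'' with
          | one =>
            intro hx v hv
            rw [show (⟨1, hx⟩ : B) = 1 from rfl, map_one]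
            exact hv
          | mem y hy =>
            intro hx v hv
            rcases hy with hy | hy
            · exact hUZ _ hy v hv
            · exact hUH _ hy v hv
          | inv_mem y hy =>
            intro hx v hv
            rcases hy with hy | hy
            · exact hUZ _ (show y⁻¹ ∈ Z from inv_mem hy) v hv
            · exact hUH _ (show y⁻¹ ∈ H from inv_mem hy) v hv
          | mul y z hy hz ihy ihz =>
            intro hx v hv
            have hyB : y ∈ B := by
              show y ∈ Z ⊔ H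
              rw [Subgroup.sup_eq_closure]
              exact hy
            have hzB : z ∈ B := by
              show z ∈ Z ⊔ H
              rw [Subgroup.sup_eq_closure]
              exact hz
            rw [show (⟨y * z, hx⟩ : B) = ⟨y, hyB⟩ * ⟨z, hzB⟩ from rfl, rep_mul_apply]
            exact ihy hyB _ (ihz hzB v hv)
        exact hgen (a : A) a.2 a.2
    · exact hcomm _ hz _ hw
    · refine sum_eq_zero_of_no_fixed ρB Z' fun v hv => hC v fun z hz => ?_
      exact hv ⟨z, (le_sup_left : Z ≤ B) hz⟩ hz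
  obtain ⟨n, b, hl, hs⟩ := key
  let e : (H' : Subgroup B) ≃ H := (Subgroup.subgroupOfEquivOfLe (le_sup_right : H ≤ B)).toEquiv
  have hb : (fun q : H × Fin n => ρ (q.1 : A) (b q.2)) =
      (fun q : H' × Fin n => ρB (q.1 : B) (b q.2)) ∘ (Equiv.prodCongr e (Equiv.refl _)).symm := by
    funext q
    rfl
  refine ⟨n, b, hb ▸ hl.comp _ (Equiv.injective _), ?_⟩
  rw [hb, (Equiv.surjective _).range_comp]
  exact hs

/-- A `p`-group acting on a non-zero vector space in characteristic `p` fixes a non-zero vector. -/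
theorem exists_fixed_of_isPGroup (p : ℕ) [Fact p.Prime] [CharP k p] [Finite A] (P : Subgroup A)
    (hP : IsPGroup p P) (ρ : Representation k A V) (U : Submodule k V)
    (hU : ∀ a ∈ P, ∀ v ∈ U, ρ a v ∈ U) {v : V} (hv : v ∈ U) (hv0 : v ≠ 0) :
    ∃ w ∈ U, w ≠ 0 ∧ ∀ a ∈ P, ρ a w = w := by
  classical
  let _instP : Fintype P := Fintype.ofFinite P
  let M : AddSubgroup V := AddSubgroup.closure (Set.range fun a : P => ρ (a : A) v)
  have hMU : ∀ w ∈ M, w ∈ U := fun w hw => by
    refine (AddSubgroup.closure_le U.toAddSubgroup).mpr ?_ hw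
    rintro _ ⟨a, rfl⟩
    exact hU a a.2 v hv
  have hMP : ∀ (a : P), ∀ w ∈ M, ρ (a : A) w ∈ M := by
    intro a w hw
    induction hw using AddSubgroup.closure_induction with
    | mem x hx =>
      obtain ⟨b, rfl⟩ := hx
      exact AddSubgroup.subset_closure ⟨a * b, rep_mul_apply ρ (a : A) (b : A) v⟩
    | zero => rw [map_zero]; exact zero_mem _
    | add x y _ _ hx hy => rw [map_add]; exact add_mem hx hy
    | neg x _ hx => rw [map_neg]; exact neg_mem hx
  have hp0 : ∀ w : M, p • w = 0 := fun w => Subtype.ext (by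
    show p • (w : V) = 0
    rw [← Nat.cast_smul_eq_nsmul k, CharP.cast_eq_zero, zero_smul])
  have : AddGroup.FG M := (AddGroup.fg_iff_addSubgroup_fg M).mpr
    ⟨Finset.image (fun a : P => ρ (a : A) v) Finset.univ, by
      rw [Finset.coe_image, Finset.coe_univ, Set.image_univ]⟩
  have : Finite M := AddCommGroup.finite_of_fg_torsion M fun w =>
    isOfFinAddOrder_iff_nsmul_eq_zero.mpr ⟨p, (Fact.out : p.Prime).pos, hp0 w⟩
  let _instA : MulAction P M :=
    { smul := fun a w => ⟨ρ (a : A) w, hMP a w w.2⟩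
      one_smul := fun w => Subtype.ext (by show ρ ((1 : P) : A) (w : V) = w; simp)
      mul_smul := fun a b w => Subtype.ext (rep_mul_apply ρ (a : A) b w) }
  have hdvd : p ∣ Nat.card M := by
    have hvM : v ∈ M := AddSubgroup.subset_closure ⟨1, by simp⟩
    have h1 : addOrderOf (⟨v, hvM⟩ : M) = p :=
      addOrderOf_eq_prime (hp0 _) (fun e => hv0 (congrArg Subtype.val e))
    exact h1 ▸ addOrderOf_dvd_natCard _
  have hz : (0 : M) ∈ MulAction.fixedPoints P M := fun a => Subtype.ext (map_zero _)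
  obtain ⟨w, hw, hw0⟩ := hP.exists_fixed_point_of_prime_dvd_card_of_fixed_point M hdvd hz
  refine ⟨(w : V), hMU _ w.2, fun e => hw0 (Subtype.ext e.symm), fun a ha => ?_⟩
  exact congrArg Subtype.val (hw ⟨a, ha⟩)

theorem isFreeOn_of_nilpotent [Finite A] [FiniteDimensional k V] (ρ : Representation k A V)
    (F H : Subgroup A) [F.Normal] (hF : Group.IsNilpotent F)
    (hfpf : ∀ h ∈ H, h ≠ 1 → ∀ z ∈ F, h * z * h⁻¹ = z → z = 1)
    (hC : ∀ v : V, (∀ f ∈ F, ρ f v = v) → v = 0) : IsFreeOn ρ H := by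
  classical
  -- a normal subgroup of invertible order without fixed vectors
  obtain ⟨F', hF'n, hF'F, hF'k, hC'⟩ : ∃ F' : Subgroup A, F'.Normal ∧ F' ≤ F ∧
      (Nat.card F' : k) ≠ 0 ∧ ∀ v : V, (∀ f ∈ F', ρ f v = v) → v = 0 := by
    by_cases hk : (Nat.card F : k) ≠ 0
    · exact ⟨F, inferInstance, le_rfl, hk, hC⟩
    push Not at hk
    obtain ⟨p, hpc⟩ := CharP.exists k
    rcases CharP.char_is_prime_or_zero k p with hp | hp
    swap
    · subst hp
      have : CharZero k := CharP.charP_to_charZero k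
      exact absurd (Nat.cast_eq_zero.mp hk) Nat.card_pos.ne'
    have := Fact.mk hp
    obtain ⟨P⟩ : Nonempty (Sylow p F) := inferInstance
    have hPn : (P : Subgroup F).Normal :=
      ((Group.isNilpotent_of_finite_tfae (G := F)).out 0 3 :
        Group.IsNilpotent F ↔ ∀ (p : ℕ) (_hp : Fact p.Prime) (P : Sylow p F), (P : Subgroup F).Normal).mp
        hF p inferInstance P
    obtain ⟨K, hK⟩ := Subgroup.exists_right_complement'_of_coprime (N := (P : Subgroup F))
      P.card_coprime_index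
    have hKc : Nat.card K = (P : Subgroup F).index := hK.symm.index_eq_card.symm
    have hKp : ¬ p ∣ Nat.card K := hKc ▸ P.not_dvd_index
    have hord : ∀ x ∈ K, ¬ p ∣ orderOf x := fun x hx h => hKp (h.trans
      (Subgroup.orderOf_coe (⟨x, hx⟩ : K) ▸ orderOf_dvd_natCard _))
    have hcomm : ∀ x ∈ K, ∀ y ∈ (P : Subgroup F), Commute x y := fun x hx y hy => by
      refine OddLocal.commute_of_coprime_orderOf hF ?_
      obtain ⟨a, ha⟩ := IsPGroup.iff_orderOf.mp P.isPGroup' ⟨y, hy⟩
      rw [show orderOf y = p ^ a from (Subgroup.orderOf_coe (⟨y, hy⟩ : (P : Subgroup F))).trans ha]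
      exact Nat.Coprime.pow_right a (((Nat.Prime.coprime_iff_not_dvd hp).mpr (hord x hx)).symm)
    have hKn : K.Normal := by
      rw [← Subgroup.normalizer_eq_top_iff, eq_top_iff, ← hK.sup_eq_top, sup_le_iff]
      refine ⟨fun y hy => ?_, Subgroup.le_normalizer⟩
      rw [Subgroup.mem_normalizer_iff]
      intro x
      constructor
      · intro hx
        rw [← (hcomm x hx y hy).eq, mul_inv_cancel_right]
        exact hx
      · intro hx
        have h1 := (hcomm _ hx y hy).eq
        have h2 : x = y * x * y⁻¹ := by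
          calc x = y⁻¹ * (y * x * y⁻¹ * y) := by group
            _ = y⁻¹ * (y * (y * x * y⁻¹)) := by rw [h1]
            _ = y * x * y⁻¹ := by group
        exact h2 ▸ hx
    have hKall : ∀ x : F, ¬ p ∣ orderOf x → x ∈ K := by
      intro x hx
      have h1 : K.index = Nat.card (P : Subgroup F) := hK.index_eq_card
      have h2 : x ^ Nat.card (P : Subgroup F) ∈ K := h1 ▸ Subgroup.pow_index_mem K x
      obtain ⟨a, ha⟩ := IsPGroup.iff_card.mp P.isPGroup'
      have h3 : (orderOf x).Coprime (Nat.card (P : Subgroup F)) :=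
        ha ▸ Nat.Coprime.pow_right a (((Nat.Prime.coprime_iff_not_dvd hp).mpr hx).symm)
      obtain ⟨m, hm⟩ := exists_pow_eq_self_of_coprime h3.symm
      exact hm ▸ pow_mem h2 m
    refine ⟨K.map F.subtype, ⟨?_⟩, Subgroup.map_subtype_le K, ?_, ?_⟩
    · rintro _ ⟨x, hx, rfl⟩ a
      refine ⟨⟨a * x * a⁻¹, Subgroup.Normal.conj_mem inferInstance _ x.2 a⟩,
        hKall _ fun h => hord x hx ?_, rfl⟩
      rw [← Subgroup.orderOf_coe] at h ⊢
      exact (MulEquiv.orderOf_eq (MulAut.conj a) (x : A)) ▸ h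
    · rw [Nat.card_congr (K.equivMapOfInjective _ F.subtype_injective).toEquiv.symm,
        ne_eq, CharP.cast_eq_zero_iff k p]
      exact hKp
    · intro v hv
      by_contra hv0
      let U : Submodule k V :=
        { carrier := {w | ∀ f ∈ K.map F.subtype, ρ f w = w}
          add_mem' := fun ha hb f hf => by rw [map_add, ha f hf, hb f hf]
          zero_mem' := fun f _ => map_zero _
          smul_mem' := fun c w hw f hf => by rw [map_smul, hw f hf] }
      obtain ⟨w, hwU, hw0, hwP⟩ := exists_fixed_of_isPGroup p ((P : Subgroup F).map F.subtype)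
        (P.isPGroup'.map _) ρ U (by
          rintro _ ⟨y, hy, rfl⟩ w hw _ ⟨x, hx, rfl⟩
          rw [← rep_mul_apply, ← map_mul, (hcomm x hx y hy).eq, map_mul, rep_mul_apply,
            hw _ ⟨x, hx, rfl⟩]) hv hv0
      refine hw0 (hC w fun f hf => ?_)
      obtain ⟨⟨⟨y, hy⟩, ⟨x, hx⟩⟩, hyx, -⟩ := hK.existsUnique ⟨f, hf⟩
      have e1 : ρ (x : A) w = w := hwU _ ⟨x, hx, rfl⟩
      have e2 : ρ (y : A) w = w := hwP _ ⟨y, hy, rfl⟩
      rw [show f = (y : A) * (x : A) from (congrArg Subtype.val hyx).symm, rep_mul_apply, e1, e2]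
  let _instF : Fintype F' := Fintype.ofFinite _
  refine isFreeOn_induction H (fun W _ _ σ => ∀ v : W, ∑ z : F', σ (z : A) v = 0)
    (fun W _ _ σ U hU hP => subRep_sum σ U hU F' hP)
    (fun W _ _ σ U hU hP => quotRep_sum σ U hU F' hP)
    (fun W _ _ _ _ σ hP hirr => ?_) V ρ (sum_eq_zero_of_no_fixed ρ F' hC')
  -- the preimage of the centre of the image of `F'`
  let Z : Subgroup A :=
    { carrier := {z | z ∈ F' ∧ ∀ x ∈ F', σ (z * x) = σ (x * z)}
      one_mem' := ⟨one_mem _, fun x _ => by rw [one_mul, mul_one]⟩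
      mul_mem' := fun {a b} ha hb => ⟨mul_mem ha.1 hb.1, fun x hx => by
        simp only [map_mul] at ha hb ⊢
        rw [mul_assoc, hb.2 x hx, ← mul_assoc, ha.2 x hx, mul_assoc]⟩
      inv_mem' := fun {a} ha => ⟨inv_mem ha.1, fun x hx => by
        have h1 : σ a⁻¹ * σ a = 1 := by rw [← map_mul, inv_mul_cancel, map_one]
        have h2 : σ a * σ a⁻¹ = 1 := by rw [← map_mul, mul_inv_cancel, map_one]
        have h3 := ha.2 x hx
        simp only [map_mul] at h3 ⊢
        calc σ a⁻¹ * σ x = σ a⁻¹ * σ x * (σ a * σ a⁻¹) := by rw [h2, mul_one]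
          _ = σ a⁻¹ * (σ x * σ a) * σ a⁻¹ := by simp only [mul_assoc]
          _ = σ a⁻¹ * (σ a * σ x) * σ a⁻¹ := by rw [h3]
          _ = σ x * σ a⁻¹ := by rw [← mul_assoc (σ a⁻¹), h1, one_mul]⟩ }
  have memZ : ∀ z : A, z ∈ Z ↔ z ∈ F' ∧ ∀ x ∈ F', σ (z * x) = σ (x * z) := fun z => Iff.rfl
  have hZn : ∀ (a : A), ∀ z ∈ Z, a * z * a⁻¹ ∈ Z := by
    intro a z hz
    refine (memZ _).mpr ⟨hF'n.conj_mem z hz.1 a, fun x hx => ?_⟩
    have hx' : a⁻¹ * x * a ∈ F' := by simpa using hF'n.conj_mem x hx a⁻¹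
    have h1 := congrArg (fun T => σ a * T * σ a⁻¹) (hz.2 _ hx')
    simp only [← map_mul] at h1
    convert h1 using 2 <;> group
  have hZk : (Nat.card Z : k) ≠ 0 := fun h => hF'k (by
    obtain ⟨c, hc⟩ := Subgroup.card_dvd_of_le (show Z ≤ F' from fun z hz => hz.1)
    rw [hc, Nat.cast_mul, h, zero_mul])
  refine isFreeOn_of_abelian Z H (fun h _ => hZn h) (fun h hh hne z hz =>
    hfpf h hh hne z (hF'F hz.1)) hZk σ (fun z hz w hw => hz.2 w hw.1) fun v hv => ?_
  let U : Submodule k W :=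
    { carrier := {w | ∀ z ∈ Z, σ z w = w}
      add_mem' := fun ha hb f hf => by rw [map_add, ha f hf, hb f hf]
      zero_mem' := fun f _ => map_zero _
      smul_mem' := fun c w hw f hf => by rw [map_smul, hw f hf] }
  have hU : ∀ a : A, ∀ w ∈ U, σ a w ∈ U := by
    intro a w hw z hz
    have h1 := hw _ (by simpa using hZn a⁻¹ z hz : a⁻¹ * z * a ∈ Z)
    rw [rep_mul_apply, rep_mul_apply] at h1
    simpa using congrArg (σ a) h1
  rcases hirr U hU with h | h
  · exact (Submodule.mem_bot k).mp (h ▸ hv)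
  exfalso
  -- `F'` acts non-trivially, so the centre of its image is non-trivial
  have hne : ∃ x : F', σ.asGroupHom (x : A) ≠ 1 := by
    by_contra hc
    push Not at hc
    obtain ⟨w, hw⟩ := exists_ne (0 : W)
    refine hw (no_fixed_of_sum_eq_zero σ F' hF'k hP w fun z hz => ?_)
    have := congrArg Units.val (hc ⟨z, hz⟩)
    rw [Representation.asGroupHom_apply] at this
    rw [this]; rfl
  let f := (σ.asGroupHom.comp F'.subtype)
  have hnil : Group.IsNilpotent f.range := by
    have : Group.IsNilpotent F := hF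
    have : Group.IsNilpotent (F'.subgroupOf F) := Subgroup.isNilpotent _
    have : Group.IsNilpotent F' := Group.nilpotent_of_surjective
      (Subgroup.subgroupOfEquivOfLe hF'F).toMonoidHom (MulEquiv.surjective _)
    exact Group.nilpotent_of_surjective f.rangeRestrict f.rangeRestrict_surjective
  have : Nontrivial f.range := by
    obtain ⟨x, hx⟩ := hne
    exact ⟨⟨⟨f x, x, rfl⟩, 1, fun e => hx (congrArg Subtype.val e)⟩⟩
  have : Nontrivial (Subgroup.center f.range) :=
    (Subgroup.nontrivial_iff_ne_bot _).mpr (Group.IsNilpotent.center_ne_bot _)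
  obtain ⟨⟨⟨_, z, rfl⟩, hzc⟩, hz1⟩ := exists_ne (1 : Subgroup.center f.range)
  have hzZ : (z : A) ∈ Z := (memZ _).mpr ⟨z.2, fun x hx => by
    have h1 := congrArg (fun t : f.range => ((t : (W →ₗ[k] W)ˣ) : W →ₗ[k] W))
      (Subgroup.mem_center_iff.mp hzc ⟨f ⟨x, hx⟩, ⟨x, hx⟩, rfl⟩)
    simp only [map_mul]
    exact h1.symm⟩
  refine hz1 (Subtype.ext (Subtype.ext (Units.ext (LinearMap.ext fun w => ?_))))
  exact (h ▸ Submodule.mem_top : w ∈ U) (z : A) hzZ

end Cfsg.Agent.FrobFree
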